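import Cfsg.Agent.Spor.HYh.D0

set_option autoImplicit false
set_option maxRecDepth 100000000
set_option Elab.async false

namespace Cfsg.Agent.Spor.HYh

theorem ok0 : Net.okb 4 n0 = true := by decide +kernel

theorem ok1 : Net.okb 4 n1 = true := by decide +kernel

theorem ok2 : Net.okb 4 n2 = true := by decide +kernel

theorem ok3 : Net.okb 4 n3 = true := by decide +kernel

theorem ok4 : Net.okb 4 n4 = true := by decide +kernel

theorem rel0 : T.rel 4 [1, 1] 0 4 = true := by decide +kernel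

theorem rel1 : T.rel 4 [2, 2] 0 4 = true := by decide +kernel

theorem rel2 : T.rel 4 [3, 3] 0 4 = true := by decide +kernel

theorem rel3 : T.rel 4 [4, 4] 0 4 = true := by decide +kernel

theorem rel4 : T.rel 4 [5, 5] 0 4 = true := by decide +kernel

theorem rel5 : T.rel 4 [2, 1, 2, 1, 2, 1, 2, 1] 0 4 = true := by decide +kernel

theorem rel6 : T.rel 4 [3, 2, 3, 2, 3, 2, 3, 2] 0 4 = true := by decide +kernel

theorem rel7 : T.rel 4 [2, 3, 1, 2, 3, 1, 3, 2, 1, 3, 2, 1] 0 4 = true := by decide +kernel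

theorem rel8 : T.rel 4 [3, 1, 2, 3, 2, 1, 3, 1, 2, 3, 2, 1] 0 4 = true := by decide +kernel

theorem rel9 : T.rel 4 [4, 1, 4, 1, 4, 1] 0 4 = true := by decide +kernel

theorem rel10 : T.rel 4 [5, 3, 1, 3, 5, 3, 1, 3, 5, 3, 1, 3] 0 4 = true := by decide +kernel

theorem rel11 : T.rel 4 [2, 3, 4, 3, 2, 4] 0 4 = true := by decide +kernel

theorem rel12 : T.rel 4 [1, 2, 3, 2, 1, 3, 4, 1, 3, 1, 4] 0 4 = true := by decide +kernel

theorem rel13 : T.rel 4 [3, 1, 2, 1, 3, 4, 2, 1, 2, 1, 4] 0 4 = true := by decide +kernel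

theorem rel14 : T.rel 4 [3, 1, 3, 1, 3, 1, 3, 5, 1, 5] 0 4 = true := by decide +kernel

theorem rel15 : T.rel 4 [1, 3, 2, 3, 5, 1, 3, 2, 3, 5] 0 4 = true := by decide +kernel

theorem rel16 : T.rel 4 [1, 2, 1, 5, 3, 2, 1, 2, 1, 3, 5] 0 4 = true := by decide +kernel

theorem rel17 : T.rel 4 [1, 3, 1, 3, 1, 3, 1, 3, 5, 4, 5, 4] 0 4 = true := by decide +kernel

theorem hcov : T.treeCov (ones 15) L 1 = true := by decide +kernel

theorem hg : lall (fun z => band (memL L z) (band (sub (ones 15) (T.let z).cl) (T.closed (ones 15) z))) gs = true := by decide +kernel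

theorem hivk : ivOk (2 * 5) EX IV = true := by decide +kernel

theorem hrt : RT.ok (2 * 5) EX RL = true := by decide +kernel

theorem hdefs : defs F 3 = true := by decide +kernel

noncomputable def st0_l : List Nat := [nat_lit 0x3ff, nat_lit 0x3ff, nat_lit 0x3ff, nat_lit 0x800000000090000580000405, nat_lit 0x200003400000000070000480001c0001200001000060000140a, nat_lit 0x50000700001000004000000000580001c0001200007000058000040b, nat_lit 0x180004402]
theorem st0 : band (steps F IV RT base st0_l 3) (Nat.beq (Nat.add 3 (llen st0_l)) 10) = true := by decide +kernel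

theorem rot1_1 : T.rot 1 [1] (sel (ones 15) ip1 1) = true := by decide +kernel

theorem rot1_1r : band (Rule.ok (2 * 5) EX RL ⟨1 :: [1], [], 13, false⟩) (lall (memL L) [1]) = true := by decide +kernel

theorem rot1_2 : T.rot 1 [4, 1, 4, 1, 4] (sel (ones 15) ip1 2) = true := by decide +kernel

theorem rot1_2r : band (Rule.ok (2 * 5) EX RL ⟨1 :: [4, 1, 4, 1, 4], [], 4, false⟩) (lall (memL L) [4, 1, 4, 1, 4]) = true := by decide +kernel

theorem rot1_3 : T.rot 1 [3, 1, 3, 5, 1, 5, 3, 1, 3] (sel (ones 15) ip1 3) = true := by decide +kernel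

theorem rot1_3r : band (Rule.ok (2 * 5) EX RL ⟨1 :: [3, 1, 3, 5, 1, 5, 3, 1, 3], [4, 0, 4], 9, true⟩) (lall (memL L) [3, 1, 3, 5, 1, 5, 3, 1, 3]) = true := by decide +kernel

theorem rot1_4 : T.rot 1 [5, 3, 1, 3, 1, 3, 1, 3, 5] (sel (ones 15) ip1 4) = true := by decide +kernel

theorem rot1_4r : band (Rule.ok (2 * 5) EX RL ⟨1 :: [5, 3, 1, 3, 1, 3, 1, 3, 5], [8], 9, false⟩) (lall (memL L) [5, 3, 1, 3, 1, 3, 1, 3, 5]) = true := by decide +kernel

theorem cov1 : T.cover 1 [(sel (ones 15) ip1 1), (sel (ones 15) ip1 2), (sel (ones 15) ip1 3), (sel (ones 15) ip1 4), 1] = true := by decide +kernel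

theorem tl1 : T.treeLt 4 1 = true := by decide +kernel

theorem rot2_1 : T.rot 2 [4, 2, 3, 4, 3] (sel (ones 15) ip2 1) = true := by decide +kernel

theorem rot2_1r : band (Rule.ok (2 * 5) EX RL ⟨2 :: [4, 2, 3, 4, 3], [2], 6, false⟩) (lall (memL L) [4, 2, 3, 4, 3]) = true := by decide +kernel

theorem rot2_2 : T.rot 2 [3, 5, 1, 3, 2, 3, 5, 1, 3] (sel (ones 15) ip2 2) = true := by decide +kernel

theorem rot2_2r : band (Rule.ok (2 * 5) EX RL ⟨2 :: [3, 5, 1, 3, 2, 3, 5, 1, 3], [0, 4], 10, true⟩) (lall (memL L) [3, 5, 1, 3, 2, 3, 5, 1, 3]) = true := by decide +kernel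

theorem rot2_3 : T.rot 2 [3, 1, 5, 3, 2, 3, 1, 5, 3] (sel (ones 15) ip2 3) = true := by decide +kernel

theorem rot2_3r : band (Rule.ok (2 * 5) EX RL ⟨2 :: [3, 1, 5, 3, 2, 3, 1, 5, 3], [8, 4], 10, false⟩) (lall (memL L) [3, 1, 5, 3, 2, 3, 1, 5, 3]) = true := by decide +kernel

theorem rot2_4 : T.rot 2 [1, 4, 1, 3, 1, 4, 3, 1, 2, 3] (sel (ones 15) ip2 4) = true := by decide +kernel

theorem rot2_4r : band (Rule.ok (2 * 5) EX RL ⟨2 :: [1, 4, 1, 3, 1, 4, 3, 1, 2, 3], [0, 2], 7, false⟩) (lall (memL L) [1, 4, 1, 3, 1, 4, 3, 1, 2, 3]) = true := by decide +kernel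

theorem rot2_5 : T.rot 2 [1, 3, 4, 2, 1, 2, 1, 4, 3, 1] (sel (ones 15) ip2 5) = true := by decide +kernel

theorem rot2_5r : band (Rule.ok (2 * 5) EX RL ⟨2 :: [1, 3, 4, 2, 1, 2, 1, 4, 3, 1], [4, 0], 8, true⟩) (lall (memL L) [1, 3, 4, 2, 1, 2, 1, 4, 3, 1]) = true := by decide +kernel

theorem rot2_6 : T.rot 2 [1, 2, 1, 4, 3, 1, 2, 1, 3, 4] (sel (ones 15) ip2 6) = true := by decide +kernel

theorem rot2_6r : band (Rule.ok (2 * 5) EX RL ⟨2 :: [1, 2, 1, 4, 3, 1, 2, 1, 3, 4], [6, 0, 2, 0, 2], 8, true⟩) (lall (memL L) [1, 2, 1, 4, 3, 1, 2, 1, 3, 4]) = true := by decide +kernel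

theorem rot2_7 : T.rot 2 [1, 4, 3, 1, 2, 1, 3, 4, 2, 1] (sel (ones 15) ip2 7) = true := by decide +kernel

theorem rot2_7r : band (Rule.ok (2 * 5) EX RL ⟨2 :: [1, 4, 3, 1, 2, 1, 3, 4, 2, 1], [6, 0, 2], 8, true⟩) (lall (memL L) [1, 4, 3, 1, 2, 1, 3, 4, 2, 1]) = true := by decide +kernel

theorem rot2_8 : T.rot 2 [1, 5, 3, 2, 1, 2, 1, 3, 5, 1] (sel (ones 15) ip2 8) = true := by decide +kernel

theorem rot2_8r : band (Rule.ok (2 * 5) EX RL ⟨2 :: [1, 5, 3, 2, 1, 2, 1, 3, 5, 1], [0], 11, true⟩) (lall (memL L) [1, 5, 3, 2, 1, 2, 1, 3, 5, 1]) = true := by decide +kernel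

theorem rot2_9 : T.rot 2 [1, 3, 5, 1, 2, 1, 5, 3, 2, 1] (sel (ones 15) ip2 9) = true := by decide +kernel

theorem rot2_9r : band (Rule.ok (2 * 5) EX RL ⟨2 :: [1, 3, 5, 1, 2, 1, 5, 3, 2, 1], [8, 4, 0, 2], 11, true⟩) (lall (memL L) [1, 3, 5, 1, 2, 1, 5, 3, 2, 1]) = true := by decide +kernel

theorem ep0a : T.treePath [4] (Nat.shiftLeft 1 1) 1 = true := by decide +kernel

theorem ep0b : T.treePath [4] (Nat.shiftLeft 1 1) 1 = true := by decide +kernel

theorem ep0c : band (lall (fun z => Nat.ble z 255) ([4] ++ 2 :: [4])) (concl F IV 10 0x10000900000003 (encA ([4] ++ 2 :: [4]) 0)) = true := by decide +kernel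

theorem ep0d : band (Rule.ok (2 * 5) EX [] ⟨lapp [4] [4], [], 0, false⟩) (band (lall (memL L) [4]) (lall (memL L) [4])) = true := by decide +kernel

theorem cov2 : T.cover 2 [(sel (ones 15) ip2 1), (sel (ones 15) ip2 2), (sel (ones 15) ip2 3), (sel (ones 15) ip2 4), (sel (ones 15) ip2 5), (sel (ones 15) ip2 6), (sel (ones 15) ip2 7), (sel (ones 15) ip2 8), (sel (ones 15) ip2 9), 1, (Nat.shiftLeft 1 1)] = true := by decide +kernel

theorem tl2 : Nat.beq (T.let 2).tt 0 = true := by decide +kernel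

theorem rot3_1 : T.rot 3 [3] (sel (ones 15) ip3 1) = true := by decide +kernel

theorem rot3_1r : band (Rule.ok (2 * 5) EX RL ⟨3 :: [3], [], 13, false⟩) (lall (memL L) [3]) = true := by decide +kernel

theorem rot3_2 : T.rot 3 [4, 3, 2, 4, 2] (sel (ones 15) ip3 2) = true := by decide +kernel

theorem rot3_2r : band (Rule.ok (2 * 5) EX RL ⟨3 :: [4, 3, 2, 4, 2], [2], 6, true⟩) (lall (memL L) [4, 3, 2, 4, 2]) = true := by decide +kernel

theorem rot3_3 : T.rot 3 [4, 1, 3, 1, 4, 1, 2, 3, 2, 1] (sel (ones 15) ip3 3) = true := by decide +kernel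

theorem rot3_3r : band (Rule.ok (2 * 5) EX RL ⟨3 :: [4, 1, 3, 1, 4, 1, 2, 3, 2, 1], [0, 2, 4, 2, 0], 7, true⟩) (lall (memL L) [4, 1, 3, 1, 4, 1, 2, 3, 2, 1]) = true := by decide +kernel

theorem rot3_4 : T.rot 3 [1, 4, 1, 2, 3, 2, 1, 3, 4, 1] (sel (ones 15) ip3 4) = true := by decide +kernel

theorem rot3_4r : band (Rule.ok (2 * 5) EX RL ⟨3 :: [1, 4, 1, 2, 3, 2, 1, 3, 4, 1], [6, 0, 4], 7, true⟩) (lall (memL L) [1, 4, 1, 2, 3, 2, 1, 3, 4, 1]) = true := by decide +kernel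

theorem rot3_5 : T.rot 3 [1, 2, 3, 2, 1, 4, 1, 3, 1, 4] (sel (ones 15) ip3 5) = true := by decide +kernel

theorem rot3_5r : band (Rule.ok (2 * 5) EX RL ⟨3 :: [1, 2, 3, 2, 1, 4, 1, 3, 1, 4], [6, 0, 4, 0, 6], 7, false⟩) (lall (memL L) [1, 2, 3, 2, 1, 4, 1, 3, 1, 4]) = true := by decide +kernel

theorem cov3 : T.cover 3 [(sel (ones 15) ip3 1), (sel (ones 15) ip3 2), (sel (ones 15) ip3 3), (sel (ones 15) ip3 4), (sel (ones 15) ip3 5), 1] = true := by decide +kernel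

theorem tl3 : T.treeLt 4 3 = true := by decide +kernel

theorem rot4_1 : T.rot 4 [4] (sel (ones 15) ip4 1) = true := by decide +kernel

theorem rot4_1r : band (Rule.ok (2 * 5) EX RL ⟨4 :: [4], [], 13, false⟩) (lall (memL L) [4]) = true := by decide +kernel

theorem rot4_2 : T.rot 4 [1, 4, 1, 4, 1] (sel (ones 15) ip4 2) = true := by decide +kernel

theorem rot4_2r : band (Rule.ok (2 * 5) EX RL ⟨4 :: [1, 4, 1, 4, 1], [], 4, true⟩) (lall (memL L) [1, 4, 1, 4, 1]) = true := by decide +kernel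

theorem rot4_3 : T.rot 4 [2, 3, 4, 3, 2] (sel (ones 15) ip4 3) = true := by decide +kernel

theorem rot4_3r : band (Rule.ok (2 * 5) EX RL ⟨4 :: [2, 3, 4, 3, 2], [], 6, false⟩) (lall (memL L) [2, 3, 4, 3, 2]) = true := by decide +kernel

theorem rot4_4 : T.rot 4 [1, 3, 1, 4, 1, 2, 3, 2, 1, 3] (sel (ones 15) ip4 4) = true := by decide +kernel

theorem rot4_4r : band (Rule.ok (2 * 5) EX RL ⟨4 :: [1, 3, 1, 4, 1, 2, 3, 2, 1, 3], [6, 0, 4, 0, 6], 7, true⟩) (lall (memL L) [1, 3, 1, 4, 1, 2, 3, 2, 1, 3]) = true := by decide +kernel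

theorem rot4_5 : T.rot 4 [3, 1, 2, 3, 2, 1, 4, 1, 3, 1] (sel (ones 15) ip4 5) = true := by decide +kernel

theorem rot4_5r : band (Rule.ok (2 * 5) EX RL ⟨4 :: [3, 1, 2, 3, 2, 1, 4, 1, 3, 1], [6, 0, 4, 0], 7, false⟩) (lall (memL L) [3, 1, 2, 3, 2, 1, 4, 1, 3, 1]) = true := by decide +kernel

theorem rot4_6 : T.rot 4 [5, 4, 1, 3, 1, 3, 1, 3, 1, 3, 5] (sel (ones 15) ip4 6) = true := by decide +kernel

theorem rot4_6r : band (Rule.ok (2 * 5) EX RL ⟨4 :: [5, 4, 1, 3, 1, 3, 1, 3, 1, 3, 5], [6, 8, 6], 12, true⟩) (lall (memL L) [5, 4, 1, 3, 1, 3, 1, 3, 1, 3, 5]) = true := by decide +kernel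

theorem rot4_7 : T.rot 4 [5, 3, 1, 3, 1, 3, 1, 3, 1, 4, 5] (sel (ones 15) ip4 7) = true := by decide +kernel

theorem rot4_7r : band (Rule.ok (2 * 5) EX RL ⟨4 :: [5, 3, 1, 3, 1, 3, 1, 3, 1, 4, 5], [6, 8], 12, false⟩) (lall (memL L) [5, 3, 1, 3, 1, 3, 1, 3, 1, 4, 5]) = true := by decide +kernel

theorem cov4 : T.cover 4 [(sel (ones 15) ip4 1), (sel (ones 15) ip4 2), (sel (ones 15) ip4 3), (sel (ones 15) ip4 4), (sel (ones 15) ip4 5), (sel (ones 15) ip4 6), (sel (ones 15) ip4 7)] = true := by decide +kernel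

theorem tl4 : T.treeLt 4 4 = true := by decide +kernel

theorem rot5_1 : T.rot 5 [5] (sel (ones 15) ip5 1) = true := by decide +kernel

theorem rot5_1r : band (Rule.ok (2 * 5) EX RL ⟨5 :: [5], [], 13, false⟩) (lall (memL L) [5]) = true := by decide +kernel

theorem rot5_2 : T.rot 5 [3, 1, 3, 1, 3, 1, 3, 5, 1] (sel (ones 15) ip5 2) = true := by decide +kernel

theorem rot5_2r : band (Rule.ok (2 * 5) EX RL ⟨5 :: [3, 1, 3, 1, 3, 1, 3, 5, 1], [8], 9, true⟩) (lall (memL L) [3, 1, 3, 1, 3, 1, 3, 5, 1]) = true := by decide +kernel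

theorem rot5_3 : T.rot 5 [3, 1, 3, 5, 3, 1, 3, 5, 3, 1, 3] (sel (ones 15) ip5 3) = true := by decide +kernel

theorem rot5_3r : band (Rule.ok (2 * 5) EX RL ⟨5 :: [3, 1, 3, 5, 3, 1, 3, 5, 3, 1, 3], [], 5, true⟩) (lall (memL L) [3, 1, 3, 5, 3, 1, 3, 5, 3, 1, 3]) = true := by decide +kernel

theorem rot5_4 : T.rot 5 [4, 1, 3, 1, 3, 1, 3, 1, 3, 5, 4] (sel (ones 15) ip5 4) = true := by decide +kernel

theorem rot5_4r : band (Rule.ok (2 * 5) EX RL ⟨5 :: [4, 1, 3, 1, 3, 1, 3, 1, 3, 5, 4], [6, 8], 12, true⟩) (lall (memL L) [4, 1, 3, 1, 3, 1, 3, 1, 3, 5, 4]) = true := by decide +kernel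

theorem cov5 : T.cover 5 [(sel (ones 15) ip5 1), (sel (ones 15) ip5 2), (sel (ones 15) ip5 3), (sel (ones 15) ip5 4)] = true := by decide +kernel

theorem tl5 : T.treeLt 4 5 = true := by decide +kernel

end Cfsg.Agent.Spor.HYh
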