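import Cfsg.Agent.Spor.Chk

set_option autoImplicit false
set_option maxRecDepth 100000000
set_option Elab.async false
noncomputable section

namespace Cfsg.Agent.Spor.HYh

def m0_0 : Nat := nat_lit 0x5
def m0_1 : Nat := nat_lit 0x20c
def m0_2 : Nat := nat_lit 0x1022
def m0_3 : Nat := nat_lit 0x41
def m0_4 : Nat := nat_lit 0x11
def m0_5 : Nat := nat_lit 0x3
def m0_6 : Nat := nat_lit 0x5
def n0 : Net := Net.cons 8 m0_0 (Net.cons 4 m0_1 (Net.cons 2 m0_2 (Net.cons 1 m0_3 (Net.cons 2 m0_4 (Net.cons 4 m0_5 (Net.cons 8 m0_6 (Net.nil)))))))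

def n1 : Net := Net.nil

def m2_0 : Nat := nat_lit 0x2
def m2_1 : Nat := nat_lit 0x406
def m2_2 : Nat := nat_lit 0x131
def m2_3 : Nat := nat_lit 0x1451
def m2_4 : Nat := nat_lit 0x101
def m2_5 : Nat := nat_lit 0x2
def n2 : Net := Net.cons 8 m2_0 (Net.cons 4 m2_1 (Net.cons 2 m2_2 (Net.cons 1 m2_3 (Net.cons 2 m2_4 (Net.cons 8 m2_5 (Net.nil))))))

def m3_0 : Nat := nat_lit 0x704
def m3_1 : Nat := nat_lit 0x230
def m3_2 : Nat := nat_lit 0x1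
def m3_3 : Nat := nat_lit 0x204
def n3 : Net := Net.cons 4 m3_0 (Net.cons 2 m3_1 (Net.cons 1 m3_2 (Net.cons 4 m3_3 (Net.nil))))

def m4_0 : Nat := nat_lit 0xc
def m4_1 : Nat := nat_lit 0x1122
def m4_2 : Nat := nat_lit 0x14
def m4_3 : Nat := nat_lit 0x11
def m4_4 : Nat := nat_lit 0x3
def n4 : Net := Net.cons 4 m4_0 (Net.cons 2 m4_1 (Net.cons 1 m4_2 (Net.cons 2 m4_3 (Net.cons 4 m4_4 (Net.nil)))))

def ip1 : List Nat := [0x2d08, 0x5800, 0x54]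
def l1 : Let := ⟨0, false, 0x7fff, 0x2508, [0x2558, 0x5854, 0x5000, 0x0]⟩

def ip2 : List Nat := [0x5708, 0x22a8, 0x2c08, 0x154]
def l2 : Let := ⟨1, false, 0x7fff, 0x0, [0x2824, 0x502c, 0x7fd0, 0x0]⟩

def ip3 : List Nat := [0x7aa0, 0x2002, 0x1008]
def l3 : Let := ⟨2, false, 0x7fff, 0x4aa0, [0x7aa0, 0xa, 0x3000, 0x0]⟩

def ip4 : List Nat := [0x36b2, 0x2fc, 0x6c54]
def l4 : Let := ⟨3, false, 0x7fff, 0x1002, [0x56e2, 0x5c, 0x6ea0, 0x0]⟩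

def ip5 : List Nat := [0x5854, 0x5aa0, 0x2500]
def l5 : Let := ⟨4, false, 0x7fff, 0x54, [0x2754, 0x5f00, 0x7700, 0xa0]⟩

def F : Nat := nat_lit 0x10200001000010000002000030200003000010300002000000300000000000200000000000100000000030100002000020200001000010400000

def RT : RTree := RTree.node 0x201030402010201040301 ⟨[2, 1, 3, 4, 2, 1, 2, 1, 4, 3, 1], [4, 0], 8, true⟩ (RTree.node 0x30403020402 ⟨[3, 4, 3, 2, 4, 2], [2], 6, true⟩ (RTree.node 0x202 ⟨[2, 2], [], 13, false⟩ (RTree.leaf) (RTree.leaf)) (RTree.leaf)) (RTree.node 0x403010201030402010201 ⟨[4, 3, 1, 2, 1, 3, 4, 2, 1, 2, 1], [6], 8, true⟩ (RTree.leaf) (RTree.leaf))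

def NT : List Net := [n0, n1, n2, n3, n4]
def LT : List Let := [⟨0, false, 0, 0, []⟩, l1, l2, l3, l4, l5]
def T : Tab := ⟨NT, LT⟩
def EX : List (List Nat) := [[], [0], [2], [4], [6], [8]]
def RL : List (List Nat) := [[0, 2, 0, 2, 0, 2, 0, 2], [2, 4, 2, 4, 2, 4, 2, 4], [0, 2, 4, 0, 2, 4, 0, 4, 2, 0, 4, 2], [0, 2, 4, 2, 0, 4, 0, 2, 4, 2, 0, 4], [0, 6, 0, 6, 0, 6], [4, 0, 4, 8, 4, 0, 4, 8, 4, 0, 4, 8], [6, 2, 4, 6, 4, 2], [6, 0, 4, 0, 6, 4, 0, 2, 4, 2, 0], [6, 0, 2, 0, 2, 6, 4, 0, 2, 0, 4], [8, 0, 8, 4, 0, 4, 0, 4, 0, 4], [8, 4, 2, 4, 0, 8, 4, 2, 4, 0], [8, 4, 0, 2, 0, 2, 4, 8, 0, 2, 0], [6, 8, 6, 8, 4, 0, 4, 0, 4, 0, 4, 0]]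
def XL : List (List Nat) := []
def BW : List (List Nat) := [[0], [2], [4]]
def IV : Nat := 0x50403020100
def L : List Nat := [1, 2, 3, 4, 5]
def gs : List Nat := [1, 2, 3, 4, 5]
def base : List Nat := [1, 2, 3]

end Cfsg.Agent.Spor.HYh
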